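import Groth.Agent.SmoothLib.AtPoint
import Groth.Agent.FlatLocal.StalkCrit
import Mathlib.AlgebraicGeometry.Morphisms.Smooth
import Mathlib.AlgebraicGeometry.Morphisms.Flat
import Mathlib.AlgebraicGeometry.Fiber

/-!
# Stalkwise criteria for smoothness near a point
-/

set_option autoImplicit false
set_option linter.style.haveILetI false
set_option backward.isDefEq.respectTransparency.types false
universe u

namespace Groth.Agent.SmoothLib
open CategoryTheory CategoryTheory.Limits AlgebraicGeometry TopologicalSpace TensorProduct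

variable {X Y : Scheme.{u}} (f : X ⟶ Y)

theorem formallySmooth_stalkMap_of_nhd {x : X} {U : X.Opens} (hx : x ∈ U) [hU : Smooth (U.ι ≫ f)] :
    (f.stalkMap x).hom.FormallySmooth := by
  haveI : LocallyOfFinitePresentation (U.ι ≫ f) := inferInstance
  have h0 : (⟨x, hx⟩ : U.toScheme) ∈ (U.ι ≫ f).smoothLocus := by rw [(U.ι ≫ f).smoothLocus_eq_top]; trivial
  have h : ((U.ι ≫ f).stalkMap ⟨x, hx⟩).hom.FormallySmooth := h0
  rw [Scheme.Hom.stalkMap_comp, ← Scheme.Opens.stalkIso_inv] at h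
  exact (RingHom.FormallySmooth.respectsIso.cancel_right_isIso (f.stalkMap x) (U.stalkIso ⟨x, hx⟩).inv).mp h

theorem smooth_nhd_iff [LocallyOfFinitePresentation f] (x : X) :
    (∃ U : X.Opens, x ∈ U ∧ Smooth (U.ι ≫ f)) ↔ (f.stalkMap x).hom.FormallySmooth := by
  refine ⟨fun ⟨U, hx, _⟩ => formallySmooth_stalkMap_of_nhd f hx, fun h => ⟨f.smoothLocus, h, ?_⟩⟩
  rw [← Scheme.Hom.smoothLocus_eq_top_iff, ← Scheme.Hom.preimage_smoothLocus_eq]
  exact top_unique fun y _ => y.2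

theorem flat_of_formallySmooth_stalkMap [LocallyOfFinitePresentation f] {x : X}
    (h : (f.stalkMap x).hom.FormallySmooth) : (f.stalkMap x).hom.Flat := by
  obtain ⟨U, hx, _⟩ := (smooth_nhd_iff f x).mpr h
  have h2 := Flat.stalkMap (U.ι ≫ f) ⟨x, hx⟩
  rw [Scheme.Hom.stalkMap_comp, ← Scheme.Opens.stalkIso_inv] at h2
  exact (RingHom.Flat.respectsIso.cancel_right_isIso (f.stalkMap x) (U.stalkIso ⟨x, hx⟩).inv).mp h2

theorem flat_atPrime_of_stalkMap {x : X} {W : Y.Opens} (hW : IsAffineOpen W) {V : X.Opens} (hV : IsAffineOpen V)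
    (e : V ≤ f ⁻¹ᵁ W) (hxV : x ∈ V) (h : (f.stalkMap x).hom.Flat) :
    letI := (f.appLE W V e).hom.toAlgebra
    Module.Flat Γ(Y, W) (Localization.AtPrime (hV.primeIdealOf ⟨x, hxV⟩).asIdeal) := by
  letI := (f.appLE W V e).hom.toAlgebra
  let p := (hW.primeIdealOf ⟨f x, e hxV⟩).asIdeal
  let q := (hV.primeIdealOf ⟨x, hxV⟩).asIdeal
  haveI : q.LiesOver p := ⟨congr($(IsAffineOpen.comap_primeIdealOf_appLE W hW V hV e hxV).1).symm⟩
  letI := Localization.AtPrime.algebraOfLiesOver p q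
  have h2 : (algebraMap (Localization.AtPrime p) (Localization.AtPrime q)).Flat :=
    (RingHom.Flat.respectsIso.arrow_mk_iso_iff (IsAffineOpen.arrowStalkMapIso f W hW V hV e hxV)).mp h
  haveI : Module.Flat (Localization.AtPrime p) (Localization.AtPrime q) := RingHom.flat_algebraMap_iff.mp h2
  exact Module.Flat.trans Γ(Y, W) (Localization.AtPrime p) _

/-- Flatness at a point and smoothness of a base change at a point above it give smoothness at that point. -/
theorem formallySmooth_stalkMap_of_baseChange [LocallyOfFinitePresentation f] {Y' : Scheme.{u}} (g : Y' ⟶ Y)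
    {P : Scheme.{u}} {a : P ⟶ X} {b : P ⟶ Y'} (H : IsPullback a b f g) (x' : P)
    (hflat : (f.stalkMap (a x')).hom.Flat) (h : (b.stalkMap x').hom.FormallySmooth) :
    (f.stalkMap (a x')).hom.FormallySmooth := by
  obtain ⟨W, hW, V, hV, hxW, hxV, e⟩ := FlatLocal.exists_chart f (a x')
  have hy' : b x' ∈ g ⁻¹ᵁ W := by
    show (b ≫ g) x' ∈ W
    rw [← H.w]; exact hxW
  obtain ⟨W', hW', hyW', e'⟩ := exists_isAffineOpen_mem_and_subset (U := g ⁻¹ᵁ W) hy'
  let P₀ := a ⁻¹ᵁ V ⊓ b ⁻¹ᵁ W'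
  have hxP : x' ∈ P₀ := ⟨hxV, hyW'⟩
  have e' : W' ≤ g ⁻¹ᵁ W := e'
  haveI : IsAffine V.toScheme := hV
  haveI : IsAffine W'.toScheme := hW'
  haveI : IsAffine W.toScheme := hW
  have hP₀ : IsAffineOpen P₀ :=
    .of_isIso (Scheme.Hom.isPullback_resLE H e' e (rfl : P₀ = _)).isoPullback.hom
  have hp := (isIso_pushoutSection_iff H e' e (rfl : P₀ = _)).mp
    (isIso_pushoutSection_of_isAffineOpen H e' e rfl hW hW' hV)
  have hfp := f.finitePresentation_appLE hW hV e
  algebraize [(f.appLE W V e).hom]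
  letI : Algebra Γ(Y, W) Γ(Y', W') := (g.appLE W W' e').hom.toAlgebra
  letI : Algebra Γ(Y', W') Γ(P, P₀) := (b.appLE W' P₀ inf_le_right).hom.toAlgebra
  let i := hp.flip.isoIsPushout _ _ (CommRingCat.isPushout_tensorProduct Γ(Y, W) Γ(Y', W') Γ(X, V))
  let ε : Γ(Y', W') ⊗[Γ(Y, W)] Γ(X, V) ≃ₐ[Γ(Y', W')] Γ(P, P₀) :=
    AlgEquiv.ofRingEquiv (f := i.commRingCatIsoToRingEquiv.symm) fun r => by
      apply i.commRingCatIsoToRingEquiv.injective
      rw [RingEquiv.apply_symm_apply]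
      exact (ConcreteCategory.congr_hom (hp.flip.inl_isoIsPushout_hom _ _ (CommRingCat.isPushout_tensorProduct Γ(Y, W) Γ(Y', W') Γ(X, V))) r).symm
  let q' := (hP₀.primeIdealOf ⟨x', hxP⟩).asIdeal
  haveI : Algebra.FinitePresentation Γ(Y', W') (Γ(Y', W') ⊗[Γ(Y, W)] Γ(X, V)) := Algebra.FinitePresentation.baseChange _
  haveI : Algebra.FinitePresentation Γ(Y', W') Γ(P, P₀) := Algebra.FinitePresentation.equiv ε
  haveI : Algebra.IsSmoothAt Γ(Y', W') q' :=
    (formallySmooth_stalkMap_iff W' hW' P₀ hP₀ inf_le_right hxP).mp h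
  let Q := q'.comap ε.toAlgHom.toRingHom
  haveI : Q.IsPrime := Ideal.comap_isPrime _ _
  have hQ' : q'.comap ε.toAlgHom.toRingHom = Q := rfl
  haveI : Algebra.IsSmoothAt Γ(Y', W') Q := by
    refine isSmoothAt_of_algEquiv (k := Γ(Y', W')) (A := Γ(P, P₀)) (B := Γ(Y', W') ⊗[Γ(Y, W)] Γ(X, V)) ε.symm Q q' ?_
    ext z
    show ε (ε.symm z) ∈ q' ↔ z ∈ q'
    rw [ε.apply_symm_apply]
  let q := (hV.primeIdealOf ⟨a x', hxV⟩).asIdeal
  haveI : Module.Flat Γ(Y, W) (Localization.AtPrime q) := flat_atPrime_of_stalkMap f hW hV e hxV hflat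
  refine (formallySmooth_stalkMap_iff W hW V hV e hxV).mpr ?_
  show Algebra.IsSmoothAt Γ(Y, W) q
  refine isSmoothAt_of_baseChange Γ(Y', W') Q q ?_
  show _ = q
  rw [show q = q'.comap (a.appLE V P₀ inf_le_left).hom from
    congr($(IsAffineOpen.comap_primeIdealOf_appLE V hV P₀ hP₀ inf_le_left hxP).1).symm]
  ext z
  rw [Ideal.mem_comap, Ideal.mem_comap, Ideal.mem_comap]
  have hε : ε ((1 : Γ(Y', W')) ⊗ₜ[Γ(Y, W)] z) = a.appLE V P₀ inf_le_left z := by
    refine i.commRingCatIsoToRingEquiv.injective ?_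
    show i.commRingCatIsoToRingEquiv (i.commRingCatIsoToRingEquiv.symm _) = _
    rw [RingEquiv.apply_symm_apply]
    exact (ConcreteCategory.congr_hom (hp.flip.inr_isoIsPushout_hom _ _ (CommRingCat.isPushout_tensorProduct Γ(Y, W) Γ(Y', W') Γ(X, V))) z).symm
  rw [← hε]
  rfl

/-- Flatness at a point and smoothness of the fibre at that point give smoothness at that point. -/
theorem formallySmooth_stalkMap_of_fibre [LocallyOfFinitePresentation f] (y : Y) (z : f.fiber y)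
    (hflat : (f.stalkMap (f.fiberι y z)).hom.Flat)
    (h : ((f.fiberToSpecResidueField y).stalkMap z).hom.FormallySmooth) :
    (f.stalkMap (f.fiberι y z)).hom.FormallySmooth :=
  formallySmooth_stalkMap_of_baseChange f (Y.fromSpecResidueField y) (IsPullback.of_hasPullback _ _) z hflat h

/-- Smoothness at a point is stable under base change. -/
theorem smooth_nhd_baseChange {Y' : Scheme.{u}} (g : Y' ⟶ Y) {P : Scheme.{u}} {a : P ⟶ X} {b : P ⟶ Y'}
    (H : IsPullback a b f g) (x' : P) (h : ∃ U : X.Opens, a x' ∈ U ∧ Smooth (U.ι ≫ f)) :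
    ∃ U' : P.Opens, x' ∈ U' ∧ Smooth (U'.ι ≫ b) := by
  obtain ⟨U, hx, hU⟩ := h
  refine ⟨a ⁻¹ᵁ U, hx, ?_⟩
  have : IsPullback (a ∣_ U) ((a ⁻¹ᵁ U).ι ≫ b) (U.ι ≫ f) g :=
    (isPullback_morphismRestrict a U).paste_vert H
  exact MorphismProperty.of_isPullback this hU

end Groth.Agent.SmoothLib
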