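import Mathlib.RingTheory.RingHom.StandardSmooth
import Mathlib.RingTheory.Smooth.StandardSmoothOfFree
import Mathlib.RingTheory.QuasiFinite.Basic
import Mathlib.RingTheory.Unramified.Locus
import Mathlib.RingTheory.Unramified.LocalStructure
import Mathlib.RingTheory.Kaehler.TensorProduct
import Mathlib.RingTheory.Smooth.Locus
import Mathlib.RingTheory.Smooth.Flat
import Mathlib.RingTheory.Finiteness.Nakayama

/-!
# Smooth and quasi-finite implies étale
-/

set_option autoImplicit false
universe u

namespace Groth.Agent.SmoothLib

open TensorProduct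

/-- A finite standard smooth algebra over a field is unramified. -/
theorem formallyUnramified_of_standardSmooth_finite (k C : Type u) [Field k] [CommRing C] [Algebra k C]
    [Module.Finite k C] [Algebra.IsStandardSmooth k C] : Algebra.FormallyUnramified k C := by
  obtain ⟨ι, σ, _, _, ⟨P⟩⟩ := Algebra.IsStandardSmooth.out (R := k) (S := C)
  have hP : Algebra.IsStandardSmoothOfRelativeDimension P.dimension k C := ⟨ι, σ, _, inferInstance, P, rfl⟩
  obtain ⟨g, hg⟩ := Algebra.IsStandardSmoothOfRelativeDimension.exists_etale_mvPolynomial P.dimension k C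
  generalize P.dimension = n at g hg
  letI := g.toRingHom.toAlgebra
  haveI : IsScalarTower k (MvPolynomial (Fin n) k) C := IsScalarTower.of_algebraMap_eq (fun x => (g.commutes x).symm)
  haveI : Algebra.Etale (MvPolynomial (Fin n) k) C := RingHom.etale_algebraMap.mp hg
  cases subsingleton_or_nontrivial C
  · exact ⟨Module.subsingleton C _⟩
  · obtain rfl : n = 0 := by
      by_contra hn
      let i : Fin n := ⟨0, Nat.pos_of_ne_zero hn⟩
      obtain ⟨p, hp, hp0⟩ := Algebra.IsIntegral.isIntegral (R := k) (g (MvPolynomial.X i))
      have hne : Polynomial.aeval (MvPolynomial.X i : MvPolynomial (Fin n) k) p ≠ 0 := by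
        intro h
        apply hp.ne_zero
        have := congrArg (MvPolynomial.aeval (fun _ : Fin n => (Polynomial.X : Polynomial k))) h
        rw [← Polynomial.aeval_algHom_apply, MvPolynomial.aeval_X, Polynomial.aeval_X_left_apply, map_zero] at this
        exact this
      have hzero : algebraMap (MvPolynomial (Fin n) k) C (Polynomial.aeval (MvPolynomial.X i) p) = 0 := by
        show g _ = 0
        rw [← Polynomial.aeval_algHom_apply]
        exact hp0
      haveI : Module.Flat (MvPolynomial (Fin n) k) C := inferInstance
      have key : IsSMulRegular C (Polynomial.aeval (MvPolynomial.X i : MvPolynomial (Fin n) k) p) := by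
        have hr : IsSMulRegular (MvPolynomial (Fin n) k) (Polynomial.aeval (MvPolynomial.X i : MvPolynomial (Fin n) k) p) :=
          (isRegular_of_ne_zero hne).left
        exact IsSMulRegular.of_flat hr
      have : (1 : C) = 0 := key (show (Polynomial.aeval (MvPolynomial.X i : MvPolynomial (Fin n) k) p) • (1 : C) = (Polynomial.aeval (MvPolynomial.X i : MvPolynomial (Fin n) k) p) • (0 : C) by rw [Algebra.smul_def, Algebra.smul_def, hzero, zero_mul, zero_mul])
      exact one_ne_zero this
    haveI : Algebra.FormallyUnramified k (MvPolynomial (Fin 0) k) :=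
      Algebra.FormallyUnramified.of_equiv (MvPolynomial.isEmptyAlgEquiv k (Fin 0)).symm
    exact Algebra.FormallyUnramified.comp k (MvPolynomial (Fin 0) k) C

theorem formallyUnramified_of_smooth_finite (k C : Type u) [Field k] [CommRing C] [Algebra k C]
    [Module.Finite k C] [Algebra.Smooth k C] : Algebra.FormallyUnramified k C := by
  rw [Algebra.formallyUnramified_iff_forall]
  intro q
  obtain ⟨f, hf, hs⟩ := Algebra.IsSmoothAt.exists_notMem_isStandardSmooth k q.asIdeal
  haveI : IsArtinianRing C := IsArtinianRing.of_finite k C
  haveI : Module.Finite k (Localization.Away f) :=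
    Module.Finite.of_surjective (IsScalarTower.toAlgHom k C (Localization.Away f)).toLinearMap
      (IsArtinianRing.localization_surjective (Submonoid.powers f) _)
  haveI := formallyUnramified_of_standardSmooth_finite k (Localization.Away f)
  exact (Algebra.basicOpen_subset_unramifiedLocus_iff (R := k)).mpr inferInstance hf

/-- A local algebra that is formally smooth, essentially of finite type and quasi-finite is unramified. -/
theorem formallyUnramified_of_quasiFinite (A L : Type u) [CommRing A] [CommRing L] [IsLocalRing L]
    [Algebra A L] [Algebra.EssFiniteType A L] [Algebra.FormallySmooth A L] [Algebra.QuasiFinite A L] :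
    Algebra.FormallyUnramified A L := by
  let p : Ideal A := (IsLocalRing.maximalIdeal L).comap (algebraMap A L)
  letI : Algebra L (p.ResidueField ⊗[A] L) := Algebra.TensorProduct.rightAlgebra
  haveI : Module.Finite p.ResidueField (p.ResidueField ⊗[A] L) := Algebra.QuasiFinite.finite_fiber p
  haveI : Algebra.FinitePresentation p.ResidueField (p.ResidueField ⊗[A] L) :=
    Algebra.FinitePresentation.of_finiteType.mp inferInstance
  haveI : Algebra.Smooth p.ResidueField (p.ResidueField ⊗[A] L) := ⟨inferInstance, inferInstance⟩
  haveI := formallyUnramified_of_smooth_finite p.ResidueField (p.ResidueField ⊗[A] L)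
  haveI h1 : Subsingleton (p.ResidueField ⊗[A] Ω[L⁄A]) :=
    (KaehlerDifferential.tensorKaehlerEquivBase A p.ResidueField L (p.ResidueField ⊗[A] L)).subsingleton
  constructor
  let φ : p.ResidueField →ₐ[A] IsLocalRing.ResidueField L :=
    Ideal.ResidueField.liftₐ p (Algebra.ofId A (IsLocalRing.ResidueField L))
      (fun a ha => (IsLocalRing.residue_eq_zero_iff _).mpr ha)
      (fun a ha => (IsLocalRing.notMem_maximalIdeal.mp ha).map (IsLocalRing.residue L))
  let ψ : p.ResidueField ⊗[A] Ω[L⁄A] →ₗ[A] IsLocalRing.ResidueField L ⊗[L] Ω[L⁄A] :=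
    TensorProduct.lift (LinearMap.mk₂ A (fun c w => φ c ⊗ₜ[L] w)
      (fun _ _ _ => by simp [TensorProduct.add_tmul])
      (fun a c w => by rw [map_smul, TensorProduct.smul_tmul'])
      (fun _ _ _ => TensorProduct.tmul_add ..)
      (fun a c w => TensorProduct.tmul_smul a (φ c) w))
  have hsub : Subsingleton (IsLocalRing.ResidueField L ⊗[L] Ω[L⁄A]) := by
    refine subsingleton_of_forall_eq 0 fun z => ?_
    obtain ⟨w, rfl⟩ := TensorProduct.mk_surjective L (Ω[L⁄A]) (IsLocalRing.ResidueField L) IsLocalRing.residue_surjective z
    have : ψ ((1 : p.ResidueField) ⊗ₜ w) = 0 := by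
      rw [Subsingleton.elim ((1 : p.ResidueField) ⊗ₜ[A] w) 0, map_zero]
    simpa [ψ] using this
  exact IsLocalRing.subsingleton_tensorProduct.mp hsub

theorem isEtaleAt_of_isSmoothAt_of_quasiFiniteAt (A B : Type u) [CommRing A] [CommRing B] [Algebra A B]
    [Algebra.FinitePresentation A B] (q : Ideal B) [q.IsPrime] [Algebra.QuasiFiniteAt A q]
    (h : Algebra.IsSmoothAt A q) : Algebra.IsEtaleAt A q := by
  haveI : Algebra.FormallySmooth A (Localization.AtPrime q) := h
  haveI := formallyUnramified_of_quasiFinite A (Localization.AtPrime q)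
  exact Algebra.FormallyEtale.of_formallyUnramified_and_formallySmooth

theorem etale_of_smooth_of_quasiFinite (A B : Type u) [CommRing A] [CommRing B] [Algebra A B]
    [Algebra.Smooth A B] [Algebra.QuasiFinite A B] : Algebra.Etale A B := by
  haveI : Algebra.FormallyUnramified A B := Algebra.formallyUnramified_iff_forall.mpr fun q =>
    formallyUnramified_of_quasiFinite A (Localization.AtPrime q.asIdeal)
  exact ⟨Algebra.FormallyEtale.of_formallyUnramified_and_formallySmooth, inferInstance⟩

end Groth.Agent.SmoothLib
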