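import Groth.Agent.SmoothLib.StalkCrit
import Groth.Agent.FlatMor12.FibreFlat
import Groth.Agent.FlatLocal.FiberMap

/-!
# A morphism over a base near a point, read on the fibre
-/

set_option autoImplicit false
set_option linter.style.haveILetI false
set_option backward.isDefEq.respectTransparency.types false
universe u

namespace Groth.Agent.SmoothLib
open CategoryTheory CategoryTheory.Limits AlgebraicGeometry

variable {X Y S : Scheme.{u}} (f : X ⟶ Y) (g : Y ⟶ S)

theorem isPullback_fiberMapOver (s : S) :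
    IsPullback ((f ≫ g).fiberι s) (CohIII.fiberMapOver f (f ≫ g) g rfl s) f (g.fiberι s) := by
  refine IsPullback.of_bot (v₂₁ := g.fiberToSpecResidueField s) (v₂₂ := g)
    (h₃₁ := S.fromSpecResidueField s) ?_ (pullback.lift_fst _ _ _).symm (IsPullback.of_hasPullback _ _)
  rw [show CohIII.fiberMapOver f (f ≫ g) g rfl s ≫ g.fiberToSpecResidueField s =
    (f ≫ g).fiberToSpecResidueField s from (pullback.lift_snd _ _ _).trans (Category.comp_id _)]
  exact IsPullback.of_hasPullback _ _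

/-- Flatness over the base and flatness of the map of fibres near a point give flatness at that point. -/
theorem flat_stalkMap_of_fiberMapOver_nhd [LocallyOfFinitePresentation g] [LocallyOfFinitePresentation (f ≫ g)]
    (x : X) (hflat : ((f ≫ g).stalkMap x).hom.Flat) (x' : (f ≫ g).fiber ((f ≫ g) x))
    (hx' : (f ≫ g).fiberι ((f ≫ g) x) x' = x) (V : ((f ≫ g).fiber ((f ≫ g) x)).Opens) (hx'V : x' ∈ V)
    (hV : Flat (V.ι ≫ CohIII.fiberMapOver f (f ≫ g) g rfl ((f ≫ g) x))) :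
    (f.stalkMap x).hom.Flat := by
  obtain ⟨U₀, hU₀, hU₀V⟩ := ((f ≫ g).fiberι ((f ≫ g) x)).isEmbedding.isInducing.isOpen_iff.mp V.2
  let U : X.Opens := ⟨U₀, hU₀⟩
  obtain rfl : ((f ≫ g).fiberι ((f ≫ g) x)) ⁻¹ᵁ U = V := TopologicalSpace.Opens.ext hU₀V
  have hxU : x ∈ U := hx' ▸ hx'V
  let s := (f ≫ g) x
  let ι := (f ≫ g).fiberι s
  haveI : LocallyOfFinitePresentation f := H8Lim.lfp_cancel_right f g
  have H : IsPullback (ι ∣_ U) ((ι ⁻¹ᵁ U).ι ≫ CohIII.fiberMapOver f (f ≫ g) g rfl s) (U.ι ≫ f) (g.fiberι s) :=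
    (isPullback_morphismRestrict ι U).paste_vert (isPullback_fiberMapOver f g s)
  have hsnd : Flat (pullback.snd (U.ι ≫ f) (g.fiberι s)) := by
    rw [← H.isoPullback_inv_snd]
    exact MorphismProperty.RespectsIso.precomp @Flat _ _ hV
  have h2 : (((U.ι ≫ f) ≫ g).stalkMap ⟨x, hxU⟩).hom.Flat := by
    rw [show (U.ι ≫ f) ≫ g = U.ι ≫ (f ≫ g) from Category.assoc _ _ _, Scheme.Hom.stalkMap_comp,
      ← Scheme.Opens.stalkIso_inv]
    exact (RingHom.Flat.respectsIso.cancel_right_isIso ((f ≫ g).stalkMap x) _).mpr hflat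
  have h3 := (FlatMor12.flat_stalkMap_of_fibre (U.ι ≫ f) g ⟨x, hxU⟩ h2 hsnd).1
  rw [Scheme.Hom.stalkMap_comp, ← Scheme.Opens.stalkIso_inv] at h3
  exact (RingHom.Flat.respectsIso.cancel_right_isIso (f.stalkMap x) _).mp h3

end Groth.Agent.SmoothLib
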