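import Mathlib.RingTheory.Etale.StandardEtale
import Mathlib.RingTheory.Etale.Field
import Mathlib.RingTheory.LocalRing.Module
import Mathlib.RingTheory.Nakayama
import Mathlib.FieldTheory.PrimitiveElement
import Mathlib.FieldTheory.IsAlgClosed.AlgebraicClosure
import Mathlib.GroupTheory.CosetCover
import Mathlib.RingTheory.Unramified.Field

/-!
# Finite unramified algebras over local rings are monogenic
-/

set_option autoImplicit false
set_option linter.style.haveILetI false
universe u

namespace Groth.Agent.SmoothLib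

open Polynomial TensorProduct

theorem etale_adjoinRoot_of_separable {A : Type u} [CommRing A] (f : A[X]) (hm : f.Monic) (hs : f.Separable) :
    Algebra.Etale A (AdjoinRoot f) := by
  obtain ⟨a, b, hab⟩ := hs
  let P : StandardEtalePair A := ⟨f, hm, 1, b, a, 1, by rw [one_pow, ← hab]; ring⟩
  have hmap : P.HasMap (AdjoinRoot.root f) := ⟨(AdjoinRoot.aeval_eq f).trans AdjoinRoot.mk_self, by simp [P]⟩
  let L := AdjoinRoot.liftAlgHom f (Algebra.ofId A P.Ring) P.X P.hasMap_X.1
  have hL : L (AdjoinRoot.root f) = P.X := AdjoinRoot.liftAlgHom_root f _ _ _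
  let e : P.Ring ≃ₐ[A] AdjoinRoot f := AlgEquiv.ofAlgHom (P.lift _ hmap) L
    (AdjoinRoot.algHom_ext (by rw [AlgHom.comp_apply, hL, P.lift_X]; rfl))
    (P.hom_ext (by rw [AlgHom.comp_apply, P.lift_X, hL]; rfl))
  exact Algebra.Etale.of_equiv e

/-- Separability is seen on the residue field. -/
theorem separable_of_residue {A : Type u} [CommRing A] [IsLocalRing A] (f : A[X]) (hm : f.Monic)
    (hs : (f.map (IsLocalRing.residue A)).Separable) : f.Separable := by
  obtain ⟨a, b, hab⟩ := hs
  obtain ⟨a', ha'⟩ := map_surjective (IsLocalRing.residue A) IsLocalRing.residue_surjective a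
  obtain ⟨b', hb'⟩ := map_surjective (IsLocalRing.residue A) IsLocalRing.residue_surjective b
  haveI : Module.Finite A (AdjoinRoot f) := hm.finite_adjoinRoot
  set u := AdjoinRoot.mk f (a' * f + b' * derivative f) - 1 with hu
  have h0 : (a' * f + b' * derivative f - 1).map (IsLocalRing.residue A) = 0 := by
    simp [ha', hb', derivative_map] at hab ⊢
    rw [hab, sub_self]
  have hu' : u ∈ (IsLocalRing.maximalIdeal A).map (algebraMap A (AdjoinRoot f)) := by
    have hmem : a' * f + b' * derivative f - 1 ∈ (IsLocalRing.maximalIdeal A).map (C : A →+* A[X]) := by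
      rw [Ideal.mem_map_C_iff]
      intro n
      rw [← Ideal.Quotient.eq_zero_iff_mem]
      exact (coeff_map (IsLocalRing.residue A) n).symm.trans (by simp [h0]; rfl)
    have h1 := Ideal.mem_map_of_mem (AdjoinRoot.mk f) hmem
    rw [Ideal.map_map, map_sub, map_one, ← hu] at h1
    exact h1
  have hle : (IsLocalRing.maximalIdeal A).map (algebraMap A (AdjoinRoot f)) ≤ Ideal.jacobson ⊥ := by
    refine le_sInf fun M hM => Ideal.map_le_iff_le_comap.mpr ?_
    haveI := hM.2
    exact (IsLocalRing.eq_maximalIdeal (Ideal.isMaximal_comap_of_isIntegral_of_isMaximal M)).ge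
  have hunit : IsUnit (AdjoinRoot.mk f (derivative f)) := by
    have h1 : IsUnit (u * 1 + 1) := Ideal.mem_jacobson_bot.mp (hle hu') 1
    rw [hu, mul_one, sub_add_cancel, map_add, map_mul, map_mul, AdjoinRoot.mk_self, mul_zero, zero_add] at h1
    exact isUnit_of_mul_isUnit_right h1
  obtain ⟨c, hc⟩ := hunit.exists_left_inv
  obtain ⟨c, rfl⟩ := AdjoinRoot.mk_surjective c
  rw [← map_mul, ← map_one (AdjoinRoot.mk f), AdjoinRoot.mk_eq_mk] at hc
  obtain ⟨d, hd⟩ := hc
  exact ⟨-d, c, by linear_combination hd⟩

/-- An element separating the geometric points of a finite étale algebra over a field generates it. -/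
theorem exists_separable_generator {k : Type u} [Field k] {E : Type u} [CommRing E] [Algebra k E]
    [Module.Finite k E] [Algebra.FormallyUnramified k E] (h : Infinite k ∨ IsLocalRing E) :
    ∃ θ : E, Submodule.span k (Set.range fun i : Fin (Module.finrank k E) => θ ^ (i : ℕ)) = ⊤ ∧
      ∀ q : k[X], q.Monic → q.natDegree = Module.finrank k E → aeval θ q = 0 → q.Separable := by
  classical
  haveI : Algebra.FormallyEtale k E := Algebra.FormallyEtale.of_formallyUnramified_of_field k E
  obtain ⟨I, _, L, _, _, e, hsep⟩ := (Algebra.FormallyEtale.iff_exists_algEquiv_prod k E).mp inferInstance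
  cases nonempty_fintype I
  let K := AlgebraicClosure k
  haveI : ∀ i, Module.Finite k (L i) := fun i =>
    Module.Finite.of_surjective ((LinearMap.proj (R := k) i).comp e.toLinearMap)
      ((LinearMap.proj_surjective (R := k) i).comp e.surjective)
  haveI := hsep
  let J := Σ i : I, (L i →ₐ[k] K)
  let σ : J → (E →ₐ[k] K) := fun j => j.2.comp ((Pi.evalAlgHom k L j.1).comp e.toAlgHom)
  have hcard : Fintype.card J = Module.finrank k E := by
    rw [e.toLinearEquiv.finrank_eq, Module.finrank_pi_fintype k, Fintype.card_sigma]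
    exact Finset.sum_congr rfl fun i _ => AlgHom.card k (L i) K
  have hσ : Function.Injective σ := by
    rintro ⟨i, τ⟩ ⟨i', τ'⟩ hh
    by_cases hii : i = i'
    · subst hii
      congr 1
      ext x
      have := DFunLike.congr_fun hh (e.symm (Pi.single i x))
      simpa [σ] using this
    · have := DFunLike.congr_fun hh (e.symm (Pi.single i 1))
      simp [σ, Pi.single_eq_of_ne (Ne.symm hii)] at this
  obtain ⟨θ, hθ⟩ : ∃ θ : E, Function.Injective fun j => σ j θ := by
    rcases h with hk | hE
    · let P := {p : J × J // p.1 ≠ p.2}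
      let V : P → Subspace k E := fun p => LinearMap.ker ((σ p.1.1).toLinearMap - (σ p.1.2).toLinearMap)
      by_contra hc
      push Not at hc
      have hcov : (⋃ p, (V p : Set E)) = Set.univ := Set.eq_univ_of_forall fun x => by
        obtain ⟨a, b, hab, hne⟩ : ∃ a b, σ a x = σ b x ∧ a ≠ b := by
          simpa [Function.Injective] using hc x
        exact Set.mem_iUnion.mpr ⟨⟨(a, b), hne⟩, by simp [V, sub_eq_zero, hab]⟩
      obtain ⟨⟨⟨a, b⟩, hne⟩, hp⟩ := Subspace.exists_eq_top_of_iUnion_eq_univ hcov
      refine hne (hσ (AlgHom.ext fun x => ?_))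
      have hx : x ∈ V ⟨(a, b), hne⟩ := hp ▸ Submodule.mem_top
      simpa [V, sub_eq_zero] using hx
    · haveI : Subsingleton I := ⟨fun i j => by
        by_contra hij
        let x := e.symm (Pi.single i 1)
        rcases IsLocalRing.isUnit_or_isUnit_one_sub_self x with hx | hx
        · have := (hx.map e.toAlgHom).map (Pi.evalAlgHom k L j)
          simp [x, Pi.single_eq_of_ne (Ne.symm hij)] at this
        · have := (hx.map e.toAlgHom).map (Pi.evalAlgHom k L i)
          simp [x] at this⟩
      rcases isEmpty_or_nonempty I with hI | ⟨⟨i₀⟩⟩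
      · exact ⟨0, fun a => isEmptyElim a.1⟩
      obtain ⟨α, hα⟩ := Field.exists_primitive_element k (L i₀)
      refine ⟨e.symm (Pi.single i₀ α), fun ⟨i, τ⟩ ⟨i', τ'⟩ hh => ?_⟩
      obtain rfl := Subsingleton.elim i i₀
      obtain rfl := Subsingleton.elim i' i
      congr 1
      have hh' : τ α = τ' α := by simpa [σ] using hh
      refine AlgHom.ext_of_adjoin_eq_top (s := {α}) ?_ (by simp [hh'])
      rw [← IntermediateField.adjoin_simple_toSubalgebra_of_isAlgebraic (Algebra.IsAlgebraic.isAlgebraic α), hα,
        IntermediateField.top_toSubalgebra]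
  have hroots : ∀ q : k[X], q ≠ 0 → aeval θ q = 0 → Finset.univ.image (fun j => σ j θ) ⊆ (q.aroots K).toFinset := by
    intro q hq h0 x hx
    obtain ⟨j, -, rfl⟩ := Finset.mem_image.mp hx
    rw [Multiset.mem_toFinset, mem_aroots, aeval_algHom_apply, h0, map_zero]
    exact ⟨hq, rfl⟩
  have himg : (Finset.univ.image fun j => σ j θ).card = Module.finrank k E := by
    rw [Finset.card_image_of_injective _ hθ, Finset.card_univ, hcard]
  refine ⟨θ, ?_, fun q hq hdeg h0 => ?_⟩
  · refine LinearIndependent.span_eq_top_of_card_eq_finrank' ?_ (by simp)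
    rw [Fintype.linearIndependent_iff]
    intro g hg
    let q : k[X] := ∑ i : Fin (Module.finrank k E), monomial (i : ℕ) (g i)
    have h0 : aeval θ q = 0 := by simpa [q, aeval_monomial, ← Algebra.smul_def] using hg
    have hq0 : q = 0 := by
      by_contra hq
      have h1 := (Finset.card_le_card (hroots q hq h0)).trans
        ((q.aroots K).toFinset_card_le.trans ((card_roots' _).trans natDegree_map_le))
      rw [himg] at h1
      have h2 : q.degree < (Module.finrank k E : ℕ) := by
        refine (degree_sum_le _ _).trans_lt ((Finset.sup_lt_iff (WithBot.bot_lt_coe _)).mpr fun i _ => ?_)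
        exact (degree_monomial_le _ _).trans_lt (by exact_mod_cast i.2)
      rw [← natDegree_lt_iff_degree_lt hq] at h2
      omega
    intro i
    have := congrArg (fun p => p.coeff (i : ℕ)) hq0
    simpa [q, finset_sum_coeff, coeff_monomial, Fin.val_inj] using this
  · rw [← nodup_aroots_iff_of_splits hq.ne_zero (IsAlgClosed.splits (q.map (algebraMap k K)))]
    refine Multiset.toFinset_card_eq_card_iff_nodup.mp (le_antisymm (Multiset.toFinset_card_le _) ?_)
    calc Multiset.card (q.aroots K) ≤ (q.map (algebraMap k K)).natDegree := card_roots' _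
      _ = Module.finrank k E := by rw [natDegree_map, hdeg]
      _ ≤ _ := himg ▸ Finset.card_le_card (hroots q hq.ne_zero h0)

/-- A finite unramified algebra over a local ring is a quotient of `A[X]/(F)` with `F` monic separable of
the smallest possible degree. -/
theorem exists_monogenic {A B : Type u} [CommRing A] [IsLocalRing A] [CommRing B] [Algebra A B] [Module.Finite A B]
    [Algebra.FormallyUnramified A B] (h : Infinite (IsLocalRing.ResidueField A) ∨ IsLocalRing B) :
    ∃ F : A[X], F.Monic ∧ F.Separable ∧
      F.natDegree = Module.finrank (IsLocalRing.ResidueField A) (IsLocalRing.ResidueField A ⊗[A] B) ∧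
      ∃ φ : (A[X] ⧸ Ideal.span {F}) →ₐ[A] B, Function.Surjective φ := by
  let k := IsLocalRing.ResidueField A
  let E := k ⊗[A] B
  let π : B →ₐ[A] E := Algebra.TensorProduct.includeRight
  have hπ : Function.Surjective π := TensorProduct.mk_surjective A B k Ideal.Quotient.mk_surjective
  have h' : Infinite k ∨ IsLocalRing E := by
    rcases h with h | h
    · exact Or.inl h
    · rcases subsingleton_or_nontrivial E with hE | hE
      · exact absurd (IsLocalRing.subsingleton_tensorProduct.mp hE) (not_subsingleton B)
      · exact Or.inr (IsLocalRing.of_surjective' π.toRingHom hπ)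
  obtain ⟨θ, hθspan, hθsep⟩ := exists_separable_generator h'
  set n := Module.finrank k E with hn
  obtain ⟨b, hb⟩ := hπ θ
  have hspan : Submodule.span A (Set.range fun i : Fin n => b ^ (i : ℕ)) = ⊤ := by
    rw [← IsLocalRing.map_tensorProduct_mk_eq_top, Submodule.map_span, ← Submodule.restrictScalars_span A k
      Ideal.Quotient.mk_surjective, Submodule.restrictScalars_eq_top_iff, ← Set.range_comp]
    rw [show (TensorProduct.mk A k B 1) ∘ (fun i : Fin n => b ^ (i : ℕ)) = fun i : Fin n => θ ^ (i : ℕ) from
      funext fun i => by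
        show π (b ^ (i : ℕ)) = θ ^ (i : ℕ)
        rw [map_pow, hb]]
    exact hθspan
  obtain ⟨c, hc⟩ := (Submodule.mem_span_range_iff_exists_fun A).mp (hspan ▸ Submodule.mem_top : b ^ n ∈ _)
  let G : A[X] := ∑ i : Fin n, monomial (i : ℕ) (c i)
  have hG : G.degree < n := (degree_sum_le _ _).trans_lt
    ((Finset.sup_lt_iff (WithBot.bot_lt_coe _)).mpr fun i _ =>
      (degree_monomial_le _ _).trans_lt (by exact_mod_cast i.2))
  let F : A[X] := X ^ n - G
  have hF : F.Monic := monic_X_pow_sub (n := n) hG
  have hFdeg : F.natDegree = n := by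
    refine natDegree_eq_of_degree_eq_some ?_
    rw [degree_sub_eq_left_of_degree_lt (by rw [degree_X_pow]; exact hG), degree_X_pow]
  have hFb : aeval b F = 0 := by
    simp [F, G, aeval_monomial, ← Algebra.smul_def, hc]
  let φ : (A[X] ⧸ Ideal.span {F}) →ₐ[A] B := Ideal.Quotient.liftₐ _ (aeval b) fun p hp => by
    obtain ⟨q, rfl⟩ := Ideal.mem_span_singleton'.mp hp
    rw [map_mul, hFb, mul_zero]
  refine ⟨F, hF, separable_of_residue F hF (hθsep _ (hF.map _) (by rw [hF.natDegree_map, hFdeg]) ?_),
    hFdeg, φ, ?_⟩
  · rw [show IsLocalRing.residue A = algebraMap A k from rfl, aeval_map_algebraMap, ← hb, aeval_algHom_apply,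
      hFb, map_zero]
  · intro y
    obtain ⟨a, ha⟩ := (Submodule.mem_span_range_iff_exists_fun A).mp (hspan ▸ Submodule.mem_top : y ∈ _)
    exact ⟨Ideal.Quotient.mk _ (∑ i : Fin n, monomial (i : ℕ) (a i)), by
      show aeval b _ = y
      simp [aeval_monomial, ← Algebra.smul_def, ha]⟩

end Groth.Agent.SmoothLib
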