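import Groth.Agent.FlatLocal.FlatAt
import Mathlib.RingTheory.Smooth.Locus
import Mathlib.RingTheory.Extension.Cotangent.BaseChange
import Mathlib.RingTheory.Kaehler.TensorProduct
import Mathlib.RingTheory.Flat.FaithfullyFlat.Algebra
import Mathlib.RingTheory.LocalRing.ResidueField.Fiber

/-!
# Smoothness at a point: base change, fibres, descent along field extensions
-/

set_option autoImplicit false
set_option linter.style.haveILetI false
set_option linter.unusedSectionVars false
universe u

namespace Groth.Agent.SmoothLib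
open TensorProduct Algebra

attribute [local instance] Algebra.TensorProduct.rightAlgebra

variable {R S : Type u} [CommRing R] [CommRing S] [Algebra R S]

theorem isSmoothAt_of_away [Algebra.FinitePresentation R S] (q : Ideal S) [q.IsPrime] {f : S} (hf : f ∉ q)
    (h : Algebra.FormallySmooth R (Localization.Away f)) : Algebra.IsSmoothAt R q :=
  (Algebra.basicOpen_subset_smoothLocus_iff (R := R) (f := f)).mpr h (show (⟨q, ‹_›⟩ : PrimeSpectrum S) ∈ _ from hf)

theorem isSmoothAt_of_algEquiv {k A B : Type u} [CommRing k] [CommRing A] [CommRing B] [Algebra k A] [Algebra k B]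
    [Algebra.FinitePresentation k A] (ε : A ≃ₐ[k] B) (Q : Ideal B) [Q.IsPrime] (q : Ideal A) [q.IsPrime]
    (hq : Q.comap ε.toAlgHom.toRingHom = q) [Algebra.IsSmoothAt k q] : Algebra.IsSmoothAt k Q := by
  haveI : Algebra.FinitePresentation k B := Algebra.FinitePresentation.equiv ε
  obtain ⟨g, hg, hgs⟩ := Algebra.IsSmoothAt.exists_notMem_smooth k q
  refine isSmoothAt_of_away (R := k) Q (f := ε g) (fun h => hg (hq ▸ h)) ?_
  haveI := hgs.formallySmooth
  refine Algebra.FormallySmooth.of_equiv (A := Localization.Away g) (AlgEquiv.ofRingEquiv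
    (f := IsLocalization.ringEquivOfRingEquiv (M := Submonoid.powers g) (T := Submonoid.powers (ε g))
      (Localization.Away g) (Localization.Away (ε g)) ε.toRingEquiv
      (by rw [Submonoid.map_powers]; rfl)) fun c => ?_)
  rw [IsScalarTower.algebraMap_apply k A (Localization.Away g), IsLocalization.ringEquivOfRingEquiv_eq]
  show algebraMap _ _ (ε (algebraMap k A c)) = _
  rw [ε.commutes, ← IsScalarTower.algebraMap_apply]

/-- Smoothness at a point is stable under base change. -/
theorem isSmoothAt_baseChange [Algebra.FinitePresentation R S] (R' : Type u) [CommRing R'] [Algebra R R']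
    (Q : Ideal (R' ⊗[R] S)) [Q.IsPrime] (q : Ideal S) [q.IsPrime]
    (hQ : Q.comap (Algebra.TensorProduct.includeRight : S →ₐ[R] R' ⊗[R] S).toRingHom = q)
    [Algebra.IsSmoothAt R q] : Algebra.IsSmoothAt R' Q := by
  obtain ⟨f, hf, hsm⟩ := Algebra.IsSmoothAt.exists_notMem_smooth R q
  refine isSmoothAt_of_away Q (f := (1 : R') ⊗ₜ[R] f) (fun h => hf ?_) ?_
  · rw [← hQ]; exact h
  · exact Algebra.FormallySmooth.of_equiv (IsLocalization.Away.tensorProductEquivTMulRight R R' f (Localization.Away f))

/-- Flat at a point with smooth fibre at that point implies smooth at that point. -/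
theorem isSmoothAt_of_fibre [Algebra.FinitePresentation R S] (p : Ideal R) (q : Ideal S)
    [p.IsPrime] [q.IsPrime] [Module.Flat R (Localization.AtPrime q)]
    (P : Ideal (p.Fiber S)) [P.IsPrime]
    (hP : P.comap (Algebra.TensorProduct.includeRight : S →ₐ[R] p.Fiber S).toRingHom = q)
    [Algebra.IsSmoothAt p.ResidueField P] : Algebra.IsSmoothAt R q := by
  haveI : Algebra.FinitePresentation p.ResidueField (p.Fiber S) := Algebra.FinitePresentation.baseChange _
  obtain ⟨x, hx, hsm⟩ := Algebra.IsSmoothAt.exists_notMem_smooth p.ResidueField P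
  obtain ⟨r, hr, s, hrs⟩ := Ideal.Fiber.exists_smul_eq_one_tmul p x
  have hu : IsUnit (algebraMap R (p.Fiber S) r) := by
    rw [IsScalarTower.algebraMap_apply R p.ResidueField (p.Fiber S)]
    refine IsUnit.map _ (isUnit_iff_ne_zero.mpr ?_)
    rwa [Ne, Ideal.algebraMap_residueField_eq_zero]
  have hs : s ∉ q := fun h => by
    have h1 : (1 : p.ResidueField) ⊗ₜ[R] s ∈ P := by rw [← hP] at h; exact h
    rw [← hrs, Algebra.smul_def, P.unit_mul_mem_iff_mem hu] at h1
    exact hx h1
  have hbo : PrimeSpectrum.basicOpen ((1 : p.ResidueField) ⊗ₜ[R] s) = PrimeSpectrum.basicOpen x := by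
    ext y
    show (1 : p.ResidueField) ⊗ₜ[R] s ∉ y.asIdeal ↔ x ∉ y.asIdeal
    rw [← hrs, Algebra.smul_def, y.asIdeal.unit_mul_mem_iff_mem hu]
  have hsm' : Algebra.FormallySmooth p.ResidueField (Localization.Away ((1 : p.ResidueField) ⊗ₜ[R] s)) := by
    refine (Algebra.basicOpen_subset_smoothLocus_iff (R := p.ResidueField)).mp ?_
    rw [hbo]
    exact Algebra.basicOpen_subset_smoothLocus_iff.mpr hsm.formallySmooth
  let S' := Localization.Away s
  haveI : Algebra.FinitePresentation S S' := IsLocalization.Away.finitePresentation s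
  haveI : Algebra.FinitePresentation R S' := .trans R S S'
  let q' : Ideal S' := q.map (algebraMap S S')
  have hdisj : Disjoint (Submonoid.powers s : Set S) (q : Set S) := by
    rw [Set.disjoint_left]
    rintro _ ⟨n, rfl⟩ h
    exact hs (Ideal.IsPrime.mem_of_pow_mem ‹_› n h)
  haveI : q'.IsPrime := IsLocalization.isPrime_of_isPrime_disjoint (Submonoid.powers s) S' q ‹_› hdisj
  have hq : q'.comap (algebraMap S S') = q :=
    IsLocalization.under_map_of_isPrime_disjoint (Submonoid.powers s) S' ‹_› hdisj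
  let T := Localization.AtPrime q'
  haveI : IsLocalization.AtPrime T q := by
    have h0 : IsLocalization.AtPrime T (q'.comap (algebraMap S S')) :=
      IsLocalization.isLocalization_isLocalization_atPrime_isLocalization (Submonoid.powers s) T q'
    have hc : (q'.comap (algebraMap S S')).primeCompl = q.primeCompl := by ext z; simp [Ideal.primeCompl, hq]
    show IsLocalization q.primeCompl T
    rw [← hc]; exact h0
  let e : Localization.AtPrime q ≃ₐ[R] T :=
    (IsLocalization.algEquiv q.primeCompl (Localization.AtPrime q) T).restrictScalars R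
  haveI : Module.Flat R T := Module.Flat.of_linearEquiv e.symm.toLinearEquiv
  haveI : q'.LiesOver p := ⟨by
    ext a
    show a ∈ p ↔ algebraMap R S' a ∈ q'
    rw [IsScalarTower.algebraMap_apply R S S', ← Ideal.mem_comap, hq, ← hP]
    show a ∈ p ↔ (1 : p.ResidueField) ⊗ₜ[R] algebraMap R S a ∈ P
    rw [Algebra.algebraMap_eq_smul_one, ← smul_tmul, ← Algebra.algebraMap_eq_smul_one,
      show (algebraMap R p.ResidueField a) ⊗ₜ[R] (1 : S) = algebraMap p.ResidueField (p.Fiber S) (algebraMap R p.ResidueField a) from rfl,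
      ← Ideal.mem_comap, (Ideal.eq_bot_or_top (P.comap (algebraMap p.ResidueField (p.Fiber S)))).resolve_right
        (Ideal.comap_ne_top _ ‹P.IsPrime›.ne_top), Ideal.mem_bot, Ideal.algebraMap_residueField_eq_zero]⟩
  haveI : Algebra.FormallySmooth p.ResidueField (p.Fiber S') :=
    Algebra.FormallySmooth.of_equiv (IsLocalization.Away.tensorProductEquivTMulRight R p.ResidueField s S').symm
  haveI : Algebra.IsSmoothAt R q' := FlatLocal.isSmoothAt_of_flatAt p q'
  exact Algebra.FormallySmooth.of_equiv e.symm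

/-- Smoothness at a point descends along an extension of the base field. -/
theorem isSmoothAt_of_fieldExtension (k K A : Type u) [Field k] [Field K] [Algebra k K] [CommRing A] [Algebra k A]
    [Algebra.FiniteType k A] (Q : Ideal (K ⊗[k] A)) [Q.IsPrime] (q : Ideal A) [q.IsPrime]
    (hQ : Q.comap (Algebra.TensorProduct.includeRight : A →ₐ[k] K ⊗[k] A).toRingHom = q)
    [Algebra.IsSmoothAt K Q] : Algebra.IsSmoothAt k q := by
  let B := K ⊗[k] A
  haveI : Algebra.FiniteType K B := Algebra.FiniteType.baseChange (A := A) K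
  have hmem : (⟨Q, ‹_›⟩ : PrimeSpectrum B) ∈ Algebra.smoothLocus K B := ‹Algebra.IsSmoothAt K Q›
  rw [Algebra.smoothLocus_eq_compl_support_inter] at hmem
  obtain ⟨hH, hO⟩ := hmem
  rw [Set.mem_compl_iff, Module.notMem_support_iff] at hH
  rw [Module.mem_freeLocus] at hO
  show (⟨q, ‹_›⟩ : PrimeSpectrum A) ∈ Algebra.smoothLocus k A
  rw [Algebra.smoothLocus_eq_compl_support_inter]
  let BQ := Localization.AtPrime Q
  let Aq := Localization.AtPrime q
  haveI : Q.LiesOver q := ⟨hQ.symm⟩
  letI := Localization.AtPrime.algebraOfLiesOver q Q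
  haveI : Module.Flat A B :=
    Module.Flat.of_linearEquiv (M := A ⊗[k] K) (LinearEquiv.symm { (Algebra.TensorProduct.comm k A K).toLinearEquiv with
      map_smul' := fun a x => by
        change Algebra.TensorProduct.comm k A K (a • x) = a • Algebra.TensorProduct.comm k A K x
        rw [Algebra.smul_def, map_mul, Algebra.smul_def]
        simp [RingHom.algebraMap_toAlgebra] })
  haveI : Module.Flat A BQ := Module.Flat.trans A B BQ
  haveI : Module.Flat Aq BQ := (Module.flat_iff_of_isLocalization Aq q.primeCompl BQ).mpr ‹_›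
  haveI : IsLocalHom (algebraMap Aq BQ) := inferInstance
  haveI : Module.FaithfullyFlat Aq BQ := Module.FaithfullyFlat.of_flat_of_isLocalHom
  have red : ∀ (M : Type u) [AddCommGroup M] [Module A M],
      Nonempty (BQ ⊗[Aq] LocalizedModule q.primeCompl M ≃ₗ[BQ] BQ ⊗[A] M) := fun M _ _ =>
    ⟨(AlgebraTensorModule.congr (LinearEquiv.refl BQ BQ) (LocalizedModule.equivTensorProduct q.primeCompl M)).trans
      (AlgebraTensorModule.cancelBaseChange A Aq BQ BQ M)⟩
  constructor
  · rw [Set.mem_compl_iff, Module.notMem_support_iff]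
    let Φ : B ⊗[A] Algebra.H1Cotangent k A →ₗ[B] Algebra.H1Cotangent K B :=
      (Algebra.H1Cotangent.map k K A B).liftBaseChange B
    have hsurj : ∀ z : B ⊗[A] Algebra.H1Cotangent k A, ∃ w : K ⊗[k] Algebra.H1Cotangent k A,
        Φ z = Algebra.tensorH1CotangentOfFlat k A K w ∧ (w = 0 → z = 0) := by
      let ψ : K ⊗[k] Algebra.H1Cotangent k A →ₗ[k] B ⊗[A] Algebra.H1Cotangent k A :=
        TensorProduct.lift (LinearMap.mk₂ k (fun t x => (t ⊗ₜ[k] (1 : A) : B) ⊗ₜ[A] x)
          (fun t t' x => by rw [add_tmul, add_tmul]) (fun c t x => by rw [← smul_tmul', ← smul_tmul'])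
          (fun t x y => by rw [tmul_add]) (fun c t x => by rw [tmul_smul]))
      have hψ : Function.Surjective ψ := fun z => by
        induction z using TensorProduct.induction_on with
        | zero => exact ⟨0, map_zero _⟩
        | tmul b x =>
          induction b using TensorProduct.induction_on with
          | zero => exact ⟨0, by rw [map_zero, zero_tmul]⟩
          | tmul t a =>
            refine ⟨t ⊗ₜ (a • x), ?_⟩
            show (t ⊗ₜ[k] (1 : A) : B) ⊗ₜ[A] (a • x) = _
            rw [← smul_tmul, Algebra.smul_def]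
            congr 1
            show (1 : K) ⊗ₜ[k] a * t ⊗ₜ[k] (1 : A) = _
            rw [Algebra.TensorProduct.tmul_mul_tmul, one_mul, mul_one]
          | add b b' hb hb' =>
            obtain ⟨w, hw⟩ := hb; obtain ⟨w', hw'⟩ := hb'
            exact ⟨w + w', by rw [map_add, hw, hw', add_tmul]⟩
        | add z z' hz hz' =>
          obtain ⟨w, hw⟩ := hz; obtain ⟨w', hw'⟩ := hz'
          exact ⟨w + w', by rw [map_add, hw, hw']⟩
      have hcomp : ∀ w, Φ (ψ w) = Algebra.tensorH1CotangentOfFlat k A K w := fun w => by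
        induction w using TensorProduct.induction_on with
        | zero => rw [map_zero, map_zero, map_zero]
        | tmul t x =>
          rw [Algebra.tensorH1CotangentOfFlat_tmul]
          show Φ ((t ⊗ₜ[k] (1 : A) : B) ⊗ₜ[A] x) = _
          rw [LinearMap.liftBaseChange_tmul]
          exact algebraMap_smul B t _
        | add w w' h h' => rw [map_add, map_add, map_add, h, h']
      intro z
      obtain ⟨w, rfl⟩ := hψ z
      exact ⟨w, hcomp w, fun h => by rw [h, map_zero]⟩
    have hΦ : Function.Injective Φ := (injective_iff_map_eq_zero Φ).mpr fun z hz => by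
      obtain ⟨w, hw, hw0⟩ := hsurj z
      rw [hz] at hw
      exact hw0 ((LinearEquiv.map_eq_zero_iff _).mp hw.symm)
    have h0 : Subsingleton (BQ ⊗[A] Algebra.H1Cotangent k A) := by
      haveI : Subsingleton (BQ ⊗[B] Algebra.H1Cotangent K B) :=
        (LocalizedModule.equivTensorProduct Q.primeCompl (Algebra.H1Cotangent K B)).symm.subsingleton
      haveI : Subsingleton (BQ ⊗[B] (B ⊗[A] Algebra.H1Cotangent k A)) :=
        (Module.Flat.lTensor_preserves_injective_linearMap (M := BQ) Φ hΦ).subsingleton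
      exact (AlgebraTensorModule.cancelBaseChange A B BQ BQ (Algebra.H1Cotangent k A)).symm.subsingleton
    obtain ⟨e⟩ := red (Algebra.H1Cotangent k A)
    haveI : Subsingleton (BQ ⊗[Aq] LocalizedModule q.primeCompl (Algebra.H1Cotangent k A)) := e.subsingleton
    exact Module.FaithfullyFlat.lTensor_reflects_triviality Aq BQ _
  · rw [Module.mem_freeLocus]
    haveI := hO
    haveI : Module.Free BQ (BQ ⊗[B] Ω[B⁄K]) :=
      Module.Free.of_equiv ((LocalizedModule.equivTensorProduct Q.primeCompl (Ω[B⁄K])))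
    let e1 : BQ ⊗[A] Ω[A⁄k] ≃ₗ[BQ] BQ ⊗[B] Ω[B⁄K] :=
      (AlgebraTensorModule.cancelBaseChange A B BQ BQ (Ω[A⁄k])).symm.trans
        (AlgebraTensorModule.congr (LinearEquiv.refl BQ BQ) (KaehlerDifferential.tensorKaehlerEquiv k K A B))
    obtain ⟨e⟩ := red (Ω[A⁄k])
    haveI : Module.Free BQ (BQ ⊗[Aq] LocalizedModule q.primeCompl (Ω[A⁄k])) :=
      Module.Free.of_equiv (e.trans e1).symm
    haveI : Module.Flat Aq (LocalizedModule q.primeCompl (Ω[A⁄k])) := Module.Flat.of_flat_tensorProduct _ _ BQ
    haveI : Module.Finite Aq (LocalizedModule q.primeCompl (Ω[A⁄k])) := Module.Finite.of_isLocalizedModule q.primeCompl (LocalizedModule.mkLinearMap q.primeCompl _)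
    exact Module.free_of_flat_of_isLocalRing

set_option maxHeartbeats 1600000 in
/-- Smoothness at a point descends along a base change when the algebra is flat at that point. -/
theorem isSmoothAt_of_baseChange [Algebra.FinitePresentation R S] (R' : Type u) [CommRing R'] [Algebra R R']
    (Q : Ideal (R' ⊗[R] S)) [Q.IsPrime] (q : Ideal S) [q.IsPrime]
    (hQ : Q.comap (Algebra.TensorProduct.includeRight : S →ₐ[R] R' ⊗[R] S).toRingHom = q)
    [Module.Flat R (Localization.AtPrime q)] [Algebra.IsSmoothAt R' Q] : Algebra.IsSmoothAt R q := by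
  let p := q.under R
  haveI : q.LiesOver p := ⟨rfl⟩
  let p' := Q.under R'
  have hp : p'.comap (algebraMap R R') = p := by
    show (Q.comap (algebraMap R' (R' ⊗[R] S))).comap (algebraMap R R') = q.comap (algebraMap R S)
    rw [Ideal.comap_comap, ← hQ, Ideal.comap_comap, ← IsScalarTower.algebraMap_eq]
    congr 1
    exact (AlgHom.comp_algebraMap (Algebra.TensorProduct.includeRight : S →ₐ[R] R' ⊗[R] S)).symm
  haveI : p'.LiesOver p := ⟨hp.symm⟩
  letI : Algebra p.ResidueField p'.ResidueField := (Ideal.ResidueField.map p p' (algebraMap R R') hp.symm).toAlgebra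
  haveI : IsScalarTower R p.ResidueField p'.ResidueField := .of_algebraMap_eq fun r => by
    show _ = Ideal.ResidueField.map p p' (algebraMap R R') hp.symm (algebraMap R p.ResidueField r)
    rw [Ideal.ResidueField.map_algebraMap]
    exact IsScalarTower.algebraMap_apply R R' p'.ResidueField r
  haveI : Q.LiesOver p' := ⟨rfl⟩
  obtain ⟨⟨Q', hQ'p⟩, hQ'⟩ : ∃ Q' : PrimeSpectrum (p'.Fiber (R' ⊗[R] S)),
      Q'.asIdeal.comap (Algebra.TensorProduct.includeRight : R' ⊗[R] S →ₐ[R'] p'.Fiber (R' ⊗[R] S)).toRingHom = Q :=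
    ⟨(PrimeSpectrum.preimageEquivFiber R' (R' ⊗[R] S) ⟨p', inferInstance⟩) ⟨⟨Q, ‹_›⟩, PrimeSpectrum.ext rfl⟩, by
      have := (PrimeSpectrum.preimageEquivFiber R' (R' ⊗[R] S) ⟨p', inferInstance⟩).symm_apply_apply ⟨⟨Q, ‹_›⟩, PrimeSpectrum.ext rfl⟩
      exact congrArg (fun z => z.1.asIdeal) this⟩
  haveI := hQ'p
  haveI : Algebra.IsSmoothAt p'.ResidueField Q' := isSmoothAt_baseChange p'.ResidueField Q' Q hQ'
  let ε : p'.Fiber (R' ⊗[R] S) ≃ₐ[p'.ResidueField] p'.ResidueField ⊗[p.ResidueField] (p.Fiber S) :=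
    (Algebra.TensorProduct.cancelBaseChange R R' p'.ResidueField p'.ResidueField S).trans
      (Algebra.TensorProduct.cancelBaseChange R p.ResidueField p'.ResidueField p'.ResidueField S).symm
  let Q'' : Ideal (p'.ResidueField ⊗[p.ResidueField] (p.Fiber S)) := Q'.comap ε.symm.toRingEquiv.toRingHom
  haveI : Q''.IsPrime := Ideal.comap_isPrime _ _
  haveI : Algebra.FinitePresentation p'.ResidueField (p'.Fiber (R' ⊗[R] S)) :=
    haveI : Algebra.FinitePresentation R' (R' ⊗[R] S) := Algebra.FinitePresentation.baseChange _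
    Algebra.FinitePresentation.baseChange _
  haveI : Algebra.FinitePresentation p.ResidueField (p.Fiber S) := Algebra.FinitePresentation.baseChange _
  have hq'' : Q''.comap ε.toAlgHom.toRingHom = Q' := Ideal.ext fun z => by
    show ε.symm (ε z) ∈ Q' ↔ z ∈ Q'
    rw [ε.symm_apply_apply]
  haveI := isSmoothAt_of_algEquiv (k := p'.ResidueField) (B := p'.ResidueField ⊗[p.ResidueField] (p.Fiber S)) ε Q'' Q' hq''
  let P := Q''.comap (Algebra.TensorProduct.includeRight :
    p.Fiber S →ₐ[p.ResidueField] p'.ResidueField ⊗[p.ResidueField] (p.Fiber S)).toRingHom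
  haveI : P.IsPrime := Ideal.comap_isPrime _ _
  haveI : Algebra.IsSmoothAt p.ResidueField P :=
    isSmoothAt_of_fieldExtension p.ResidueField p'.ResidueField (p.Fiber S) Q'' P rfl
  refine isSmoothAt_of_fibre p q P ?_
  refine Eq.trans ?_ hQ
  ext a
  rw [Ideal.mem_comap, Ideal.mem_comap]
  refine Iff.trans ?_ (SetLike.ext_iff.mp hQ' _)
  show ε.symm ((1 : p'.ResidueField) ⊗ₜ[p.ResidueField] ((1 : p.ResidueField) ⊗ₜ[R] a)) ∈ Q' ↔
    (1 : p'.ResidueField) ⊗ₜ[R'] ((1 : R') ⊗ₜ[R] a) ∈ Q'
  simp [ε]

end Groth.Agent.SmoothLib
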