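import Mathlib.RingTheory.Smooth.Local
import Mathlib.RingTheory.Smooth.Locus
import Mathlib.RingTheory.Etale.Kaehler
import Mathlib.RingTheory.LocalRing.ResidueField.Ideal
import Mathlib.RingTheory.Nakayama

/-!
# Smoothness of a closed subscheme at a point: the differential criterion
-/

set_option autoImplicit false
set_option linter.style.haveILetI false
universe u

namespace Groth.Agent.SmoothLib

open TensorProduct KaehlerDifferential

theorem isSmoothAt_quotient_iff {R A : Type u} [CommRing R] [CommRing A] [Algebra R A]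
    [Algebra.EssFiniteType R A] (I : Ideal A) (hI : I.FG) (P : Ideal (A ⧸ I)) [P.IsPrime]
    (q : Ideal A) [q.IsPrime] (hq : q = P.comap (Ideal.Quotient.mk I)) [Algebra.IsSmoothAt R q] :
    Algebra.IsSmoothAt R P ↔ ∃ s : Finset A, (↑s : Set A) ⊆ (I : Set A) ∧
      Ideal.map (algebraMap A (Localization.AtPrime q)) I =
        Ideal.span ((algebraMap A (Localization.AtPrime q)) '' (↑s : Set A)) ∧
      LinearIndependent q.ResidueField
        (fun g : ↥s => (1 : q.ResidueField) ⊗ₜ[A] D R A (g : A)) := by
  let T := Localization.AtPrime q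
  let S := Localization.AtPrime P
  let K := q.ResidueField
  haveI : P.LiesOver q := ⟨hq⟩
  letI := Localization.AtPrime.algebraOfLiesOver q P
  haveI : IsScalarTower R T S := IsScalarTower.of_algebraMap_eq' (by
    rw [IsScalarTower.algebraMap_eq R A T, ← RingHom.comp_assoc, ← IsScalarTower.algebraMap_eq A T S,
      ← IsScalarTower.algebraMap_eq R A S])
  haveI : Algebra.FormallySmooth R T := ‹Algebra.IsSmoothAt R q›
  haveI : Algebra.FormallyEtale A T := .of_isLocalization q.primeCompl
  haveI : Algebra.EssFiniteType R T := Algebra.EssFiniteType.comp R A T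
  haveI : Module.Finite T Ω[T⁄R] := inferInstance
  haveI : Module.Free T Ω[T⁄R] := Module.free_of_flat_of_isLocalRing
  have hmk : ∀ a : A, algebraMap A S a = algebraMap (A ⧸ I) S (Ideal.Quotient.mk I a) := fun a =>
    IsScalarTower.algebraMap_apply A (A ⧸ I) S a
  have hlift : ∀ z : S, ∃ (a : A) (s : q.primeCompl), z * algebraMap A S s.1 = algebraMap A S a := by
    intro z
    obtain ⟨⟨b, t⟩, hb⟩ := IsLocalization.surj P.primeCompl z
    obtain ⟨a, rfl⟩ := Ideal.Quotient.mk_surjective b
    obtain ⟨c, hc⟩ := Ideal.Quotient.mk_surjective t.1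
    refine ⟨a, ⟨c, fun h => t.2 (hc ▸ ?_)⟩, ?_⟩
    · exact Ideal.mem_comap.mp (hq ▸ h)
    · rw [hmk, hmk, hc]; exact hb
  have h₁ : Function.Surjective (algebraMap T S) := by
    intro z
    obtain ⟨a, s, h⟩ := hlift z
    obtain ⟨u, hu⟩ := isUnit_iff_exists_inv.mp (IsLocalization.map_units T s)
    refine ⟨algebraMap A T a * u, ?_⟩
    rw [map_mul, ← IsScalarTower.algebraMap_apply, ← h, mul_assoc, IsScalarTower.algebraMap_apply A T S,
      ← map_mul, hu, map_one, mul_one]
  have hker : RingHom.ker (algebraMap T S) = I.map (algebraMap A T) := by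
    refine le_antisymm (fun z hz => ?_) (Ideal.map_le_iff_le_comap.mpr fun a ha => ?_)
    · obtain ⟨⟨a, s⟩, h⟩ := IsLocalization.surj q.primeCompl z
      have h0 : algebraMap (A ⧸ I) S (Ideal.Quotient.mk I a) = 0 := by
        rw [← hmk, IsScalarTower.algebraMap_apply A T S, ← h, map_mul, RingHom.mem_ker.mp hz, zero_mul]
      obtain ⟨⟨t, ht⟩, hta⟩ := (IsLocalization.map_eq_zero_iff P.primeCompl S _).mp h0
      obtain ⟨c, rfl⟩ := Ideal.Quotient.mk_surjective t
      have hcI : c * a ∈ I := Ideal.Quotient.eq_zero_iff_mem.mp (by rw [map_mul]; exact hta)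
      have hcq : c ∉ q := fun h => ht (Ideal.mem_comap.mp (hq ▸ h))
      have h3 : algebraMap A T (c * a) ∈ I.map (algebraMap A T) := Ideal.mem_map_of_mem _ hcI
      rw [map_mul, ← h] at h3
      exact (Ideal.mul_unit_mem_iff_mem _ (IsLocalization.map_units T s)).mp
        ((Ideal.unit_mul_mem_iff_mem _ (IsLocalization.map_units T (⟨c, hcq⟩ : q.primeCompl))).mp h3)
    · rw [Ideal.mem_comap, RingHom.mem_ker, ← IsScalarTower.algebraMap_apply, hmk,
        Ideal.Quotient.eq_zero_iff_mem.mpr ha, map_zero]
  have h₂ : (RingHom.ker (algebraMap T S)).FG := hker ▸ hI.map _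
  have hPq : ∀ a ∈ I, algebraMap A K a = 0 := fun a ha =>
    Ideal.algebraMap_residueField_eq_zero.mpr (hq ▸ show Ideal.Quotient.mk I a ∈ P by
      rw [Ideal.Quotient.eq_zero_iff_mem.mpr ha]; exact P.zero_mem)
  let f₀ : A ⧸ I →ₐ[A] K := Ideal.Quotient.liftₐ I (Algebra.ofId A K) hPq
  have hf₀ : ∀ y : P.primeCompl, IsUnit (f₀ y.1) := fun ⟨y, hy⟩ => by
    obtain ⟨a, rfl⟩ := Ideal.Quotient.mk_surjective y
    refine isUnit_iff_ne_zero.mpr fun h => hy (Ideal.mem_comap.mp ?_)
    exact hq ▸ Ideal.algebraMap_residueField_eq_zero.mp h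
  let f : S →ₐ[A] K := IsLocalization.liftAlgHom (M := P.primeCompl) (f := f₀) hf₀
  letI : Algebra S K := f.toRingHom.toAlgebra
  haveI : IsScalarTower T S K := IsScalarTower.of_algebraMap_eq' (by
    refine IsLocalization.ringHom_ext q.primeCompl ?_
    ext a
    show algebraMap T K (algebraMap A T a) = f (algebraMap T S (algebraMap A T a))
    rw [← IsScalarTower.algebraMap_apply, ← IsScalarTower.algebraMap_apply, f.commutes])
  have h₃ : IsLocalRing.maximalIdeal S ≤ RingHom.ker (algebraMap S K) := by
    intro z hz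
    by_contra hne
    obtain ⟨t, rfl⟩ := h₁ z
    have ht : IsUnit t := by
      by_contra hu
      refine hne ?_
      rw [RingHom.mem_ker, ← IsScalarTower.algebraMap_apply]
      exact Ideal.Quotient.eq_zero_iff_mem.mpr hu
    exact hz (ht.map _)
  have key : Algebra.IsSmoothAt R P ↔ Function.Injective (cotangentComplexBaseChange R S T K) :=
    Algebra.FormallySmooth.iff_injective_cotangentComplexBaseChange T K h₁ h₂ h₃
  rw [key]
  set J := RingHom.ker (algebraMap T S) with hJ
  set φ := cotangentComplexBaseChange R S T K with hφ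
  let e : K ⊗[A] Ω[A⁄R] ≃ₗ[K] K ⊗[T] Ω[T⁄R] :=
    (AlgebraTensorModule.cancelBaseChange A T K K Ω[A⁄R]).symm ≪≫ₗ
      AlgebraTensorModule.congr (LinearEquiv.refl K K) (tensorKaehlerEquivOfFormallyEtale R A T)
  let v : I → K ⊗[T] J := fun a => 1 ⊗ₜ ⟨algebraMap A T a.1, hker ▸ Ideal.mem_map_of_mem _ a.2⟩
  have hφv : ∀ a : I, φ (v a) = e (1 ⊗ₜ D R A a.1) := by
    intro a
    simp [φ, v, e, mapBaseChange_tmul]
    erw [cotangentComplexBaseChange_tmul, kerToTensor_apply]
    simp
  constructor
  · intro hinj
    have hspan : Submodule.span K (Set.range v) = ⊤ := by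
      rw [eq_top_iff]
      intro z _
      induction z using TensorProduct.induction_on with
      | zero => exact Submodule.zero_mem _
      | add x y hx hy => exact Submodule.add_mem _ (hx trivial) (hy trivial)
      | tmul k j =>
        obtain ⟨j, hj⟩ := j
        have hj' : j ∈ I.map (algebraMap A T) := hker ▸ hj
        obtain ⟨⟨a, s⟩, h⟩ := (IsLocalization.mem_map_algebraMap_iff q.primeCompl T).mp hj'
        obtain ⟨u, hu⟩ := isUnit_iff_exists_inv.mp (IsLocalization.map_units T s)
        have : (⟨j, hj⟩ : J) = u • (⟨algebraMap A T a.1, hker ▸ Ideal.mem_map_of_mem _ a.2⟩ : J) := by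
          refine Subtype.ext ?_
          show j = u * algebraMap A T a.1
          rw [← h, mul_comm u, mul_assoc, hu, mul_one]
        rw [this, ← smul_tmul, show u • k = (u • k) • (1 : K) by rw [smul_eq_mul, mul_one], ← smul_tmul']
        exact Submodule.smul_mem _ _ (Submodule.subset_span ⟨a, rfl⟩)
    obtain ⟨b, hbv, hbspan, hbli⟩ := exists_linearIndependent K (Set.range v)
    haveI : Module.Finite T J := Module.Finite.of_fg h₂
    haveI : Module.Finite K (K ⊗[T] J) := inferInstance
    have hbfin : b.Finite := hbli.setFinite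
    have hbspan' : Submodule.span K b = ⊤ := hbspan.trans hspan
    classical
    choose g hg using fun x : b => hbv x.2
    haveI := hbfin.fintype
    let bas : Module.Basis b K (K ⊗[T] J) := Module.Basis.mk hbli (by rw [Subtype.range_coe]; exact hbspan'.ge)
    let w : I → J := fun a => ⟨algebraMap A T a.1, hker ▸ Ideal.mem_map_of_mem _ a.2⟩
    have hbas : ∀ x : b, (1 : K) ⊗ₜ[T] w (g x) = bas x := fun x => by
      rw [show bas x = (x : K ⊗[T] J) from Module.Basis.mk_apply _ _ x]
      exact hg x
    have hN := IsLocalRing.span_eq_top_of_tmul_eq_basis (fun x : b => w (g x)) bas hbas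
    refine ⟨Finset.univ.image fun x : b => (g x).1, ?_, ?_, ?_⟩
    · intro a ha
      obtain ⟨x, -, rfl⟩ := Finset.mem_image.mp ha
      exact (g x).2
    · have h4 := congrArg (Submodule.map J.subtype) hN
      rw [Submodule.map_span, Submodule.map_top, Submodule.range_subtype, ← Set.range_comp] at h4
      refine hker.symm.trans (h4.symm.trans ?_)
      rw [Ideal.span, Finset.coe_image, Finset.coe_univ, Set.image_univ, ← Set.range_comp]
      rfl
    · have h5 : LinearIndependent K fun x : b => (1 : K) ⊗ₜ[A] D R A (g x).1 := by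
        refine LinearIndependent.of_comp e.toLinearMap ?_
        have h6 := hbli.map' φ (LinearMap.ker_eq_bot.mpr hinj)
        have heq : (φ ∘ fun x : b => (x : K ⊗[T] J)) = e.toLinearMap ∘ fun x : b => (1 : K) ⊗ₜ[A] D R A (g x).1 :=
          funext fun x => ((hφv (g x)).symm.trans (congrArg φ (hg x))).symm
        exact heq ▸ h6
      choose σ hσ using fun y : ↥(Finset.univ.image fun x : b => (g x).1) =>
        (Finset.mem_image.mp y.2)
      refine (linearIndependent_equiv' (Equiv.refl _) ?_).mpr (h5.comp σ fun y y' h => Subtype.ext ?_)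
      · funext y
        show (1 : K) ⊗ₜ[A] D R A (g (σ y)).1 = (1 : K) ⊗ₜ[A] D R A y.1
        rw [(hσ y).2]
      · rw [← (hσ y).2, ← (hσ y').2, h]
  · rintro ⟨s, hsI, hgen, hli⟩
    let w : s → J := fun a => ⟨algebraMap A T a.1, hker ▸ Ideal.mem_map_of_mem _ (hsI a.2)⟩
    have hw : Submodule.span T (Set.range w) = ⊤ := by
      apply Submodule.map_injective_of_injective J.injective_subtype
      rw [Submodule.map_span, Submodule.map_top, Submodule.range_subtype, ← Set.range_comp]
      refine Eq.trans ?_ ((hgen.symm).trans hker.symm)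
      rw [Ideal.span, Set.image_eq_range]
      rfl
    let u : s → K ⊗[T] J := fun a => 1 ⊗ₜ w a
    have hu : Submodule.span K (Set.range u) = ⊤ := by
      rw [eq_top_iff]
      intro z _
      induction z using TensorProduct.induction_on with
      | zero => exact Submodule.zero_mem _
      | add x y hx hy => exact Submodule.add_mem _ (hx trivial) (hy trivial)
      | tmul k j =>
        have hj : j ∈ Submodule.span T (Set.range w) := hw ▸ trivial
        clear * - hj
        induction hj using Submodule.span_induction with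
        | mem y hy =>
          obtain ⟨a, rfl⟩ := hy
          rw [show k = k • (1 : K) by rw [smul_eq_mul, mul_one], ← smul_tmul']
          exact Submodule.smul_mem _ _ (Submodule.subset_span ⟨a, rfl⟩)
        | zero => rw [tmul_zero]; exact Submodule.zero_mem _
        | add x y _ _ hx hy => rw [tmul_add]; exact Submodule.add_mem _ hx hy
        | smul t x _ hx => rw [tmul_smul]; exact Submodule.smul_of_tower_mem _ t hx
    have hφu : LinearIndependent K (φ ∘ u) := by
      have h6 := hli.map' e.toLinearMap e.ker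
      have heq : (φ ∘ u) = e.toLinearMap ∘ fun a : s => (1 : K) ⊗ₜ[A] D R A (a : A) :=
        funext fun a => hφv ⟨a.1, hsI a.2⟩
      exact heq ▸ h6
    rw [injective_iff_map_eq_zero]
    intro z hz
    obtain ⟨c, rfl⟩ := (Finsupp.mem_span_range_iff_exists_finsupp).mp (hu ▸ Submodule.mem_top : z ∈ Submodule.span K (Set.range u))
    have h0 : Finsupp.linearCombination K (φ ∘ u) c = 0 := by
      rw [← hz, Finsupp.linearCombination_apply]
      simp [Finsupp.sum]
    rw [linearIndependent_iff.mp hφu c h0]
    simp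

end Groth.Agent.SmoothLib
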