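import Mathlib.RingTheory.Smooth.Basic
import Mathlib.RingTheory.Etale.Kaehler
import Mathlib.RingTheory.LocalRing.Module
import Mathlib.RingTheory.Kaehler.JacobiZariski
import Mathlib.RingTheory.LocalRing.ResidueField.Ideal
import Mathlib.RingTheory.Smooth.Locus

/-!
# Smoothness in a tower, read on differentials
-/

set_option autoImplicit false
set_option linter.style.haveILetI false
universe u

namespace Groth.Agent.SmoothLib

open TensorProduct KaehlerDifferential

variable (R S T : Type u) [CommRing R] [CommRing S] [CommRing T]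
  [Algebra R S] [Algebra R T] [Algebra S T] [IsScalarTower R S T]

theorem subsingleton_h1_iff_injective [Algebra.FormallySmooth R T] :
    Subsingleton (Algebra.H1Cotangent S T) ↔ Function.Injective (mapBaseChange R S T) := by
  constructor
  · intro h
    rw [injective_iff_map_eq_zero]
    intro x hx
    obtain ⟨y, rfl⟩ := (Algebra.H1Cotangent.exact_δ_mapBaseChange R S T x).mp hx
    rw [Subsingleton.elim y 0, map_zero]
  · intro h
    refine subsingleton_of_forall_eq 0 fun y => ?_
    obtain ⟨z, rfl⟩ := (Algebra.H1Cotangent.exact_map_δ R S T y).mp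
      (h (by rw [Algebra.H1Cotangent.exact_δ_mapBaseChange R S T |>.apply_apply_eq_zero, map_zero]))
    rw [Subsingleton.elim z 0, map_zero]

theorem formallySmooth_tower_iff [Algebra.FormallySmooth R T] :
    Algebra.FormallySmooth S T ↔
      ∃ r : Ω[T⁄R] →ₗ[T] T ⊗[S] Ω[S⁄R], r ∘ₗ mapBaseChange R S T = LinearMap.id := by
  have hex := exact_mapBaseChange_map R S T
  constructor
  · intro h
    have hinj := (subsingleton_h1_iff_injective R S T).mp h.subsingleton_h1Cotangent
    obtain ⟨s, hs⟩ := Module.projective_lifting_property (map R S T T) LinearMap.id (map_surjective R S T)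
    have hk : ∀ x, x - s (map R S T T x) ∈ LinearMap.range (mapBaseChange R S T) := fun x => by
      obtain ⟨y, hy⟩ := (hex (x - s (map R S T T x))).mp
        (by rw [map_sub, show map R S T T (s (map R S T T x)) = _ from LinearMap.congr_fun hs _, LinearMap.id_apply, sub_self])
      exact ⟨y, hy⟩
    let e := LinearEquiv.ofInjective (mapBaseChange R S T) hinj
    refine ⟨e.symm.toLinearMap ∘ₗ LinearMap.codRestrict _ (LinearMap.id - s ∘ₗ map R S T T) hk, ?_⟩
    refine LinearMap.ext fun y => e.injective ?_
    simp only [LinearMap.comp_apply, LinearEquiv.coe_coe, LinearEquiv.apply_symm_apply, LinearMap.id_apply]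
    refine Subtype.ext ?_
    show mapBaseChange R S T y - s (map R S T T (mapBaseChange R S T y)) = mapBaseChange R S T y
    rw [hex.apply_apply_eq_zero, map_zero, sub_zero]
  · rintro ⟨r, hr⟩
    have hinj : Function.Injective (mapBaseChange R S T) :=
      Function.HasLeftInverse.injective ⟨r, LinearMap.congr_fun hr⟩
    let p : Ω[T⁄R] →ₗ[T] Ω[T⁄R] := LinearMap.id - mapBaseChange R S T ∘ₗ r
    have hp : LinearMap.ker (map R S T T) ≤ LinearMap.ker p := by
      intro x hx
      obtain ⟨y, rfl⟩ := (hex x).mp hx
      show mapBaseChange R S T y - mapBaseChange R S T (r (mapBaseChange R S T y)) = 0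
      rw [show r (mapBaseChange R S T y) = y from LinearMap.congr_fun hr y, sub_self]
    let e := LinearMap.quotKerEquivOfSurjective (map R S T T) (map_surjective R S T)
    let s : Ω[T⁄S] →ₗ[T] Ω[T⁄R] := (Submodule.liftQ _ p hp) ∘ₗ e.symm.toLinearMap
    haveI : Module.Projective T Ω[T⁄S] := by
      refine Module.Projective.of_split s (map R S T T) (LinearMap.ext fun x => ?_)
      obtain ⟨z, rfl⟩ := map_surjective R S T x
      have : e.symm (map R S T T z) = Submodule.Quotient.mk z := e.symm_apply_apply (Submodule.Quotient.mk z)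
      show map R S T T (Submodule.liftQ _ p hp (e.symm (map R S T T z))) = map R S T T z
      rw [this, Submodule.liftQ_apply]
      show map R S T T (z - mapBaseChange R S T (r z)) = _
      rw [map_sub, hex.apply_apply_eq_zero, sub_zero]
    haveI := (subsingleton_h1_iff_injective R S T).mpr hinj
    exact ⟨inferInstance, inferInstance⟩

theorem formallyEtale_tower_iff [Algebra.FormallySmooth R T] :
    Algebra.FormallyEtale S T ↔ Function.Bijective (mapBaseChange R S T) := by
  constructor
  · intro h
    exact (tensorKaehlerEquivOfFormallyEtale R S T).bijective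
  · intro h
    haveI : Algebra.FormallySmooth S T := (formallySmooth_tower_iff R S T).mpr
      ⟨(LinearEquiv.ofBijective _ h).symm.toLinearMap,
        LinearMap.ext fun x => (LinearEquiv.ofBijective _ h).symm_apply_apply x⟩
    haveI : Algebra.FormallyUnramified S T := ⟨subsingleton_of_forall_eq 0 fun x => by
      obtain ⟨y, rfl⟩ := map_surjective R S T x
      obtain ⟨z, rfl⟩ := h.2 y
      exact (exact_mapBaseChange_map R S T).apply_apply_eq_zero z⟩
    exact Algebra.FormallyEtale.of_formallyUnramified_and_formallySmooth

/-- At a prime: injectivity on the residue field. -/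
theorem isSmoothAt_tower_iff_residueField (A B C : Type u) [CommRing A] [CommRing B] [CommRing C]
    [Algebra A B] [Algebra B C] [Algebra A C] [IsScalarTower A B C]
    [Algebra.EssFiniteType A B] [Algebra.EssFiniteType A C] (q : Ideal C) [q.IsPrime]
    [Algebra.IsSmoothAt A q] [Algebra.IsSmoothAt A (q.under B)] :
    Algebra.IsSmoothAt B q ↔ Function.Injective ((mapBaseChange A B C).lTensor q.ResidueField) := by
  let T := Localization.AtPrime q
  let p := q.under B
  let Bp := Localization.AtPrime p
  let k := q.ResidueField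
  haveI : q.LiesOver p := ⟨rfl⟩
  letI := Localization.AtPrime.algebraOfLiesOver p q
  haveI : Algebra.FormallySmooth A T := ‹Algebra.IsSmoothAt A q›
  haveI : Algebra.FormallySmooth A Bp := ‹Algebra.IsSmoothAt A p›
  haveI : Algebra.FormallyEtale C T := .of_isLocalization q.primeCompl
  haveI : Algebra.FormallyEtale B Bp := .of_isLocalization p.primeCompl
  haveI : Algebra.EssFiniteType A T := Algebra.EssFiniteType.comp A C T
  haveI : Algebra.EssFiniteType A Bp := Algebra.EssFiniteType.comp A B Bp
  haveI : Module.Finite T Ω[T⁄A] := inferInstance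
  haveI : Module.Free T Ω[T⁄A] := Module.free_of_flat_of_isLocalRing
  haveI : Module.Finite T (T ⊗[B] Ω[B⁄A]) := inferInstance
  let eM : T ⊗[Bp] Ω[Bp⁄A] ≃ₗ[T] T ⊗[B] Ω[B⁄A] :=
    (AlgebraTensorModule.congr (LinearEquiv.refl T T) (tensorKaehlerEquivOfFormallyEtale A B Bp)).symm ≪≫ₗ
      AlgebraTensorModule.cancelBaseChange B Bp T T Ω[B⁄A]
  haveI : Module.Projective T (T ⊗[B] Ω[B⁄A]) := Module.Projective.of_equiv eM
  let φ := mapBaseChange A B T
  have h1 : Algebra.IsSmoothAt B q ↔ Function.Injective (φ.lTensor (IsLocalRing.ResidueField T)) :=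
    (formallySmooth_tower_iff A B T).trans (IsLocalRing.split_injective_iff_lTensor_residueField_injective φ)
  rw [h1]
  let α : k ⊗[C] (C ⊗[B] Ω[B⁄A]) ≃ₗ[k] k ⊗[T] (T ⊗[B] Ω[B⁄A]) :=
    AlgebraTensorModule.cancelBaseChange B C k k Ω[B⁄A] ≪≫ₗ
      (AlgebraTensorModule.cancelBaseChange B T k k Ω[B⁄A]).symm
  let β : k ⊗[C] Ω[C⁄A] ≃ₗ[k] k ⊗[T] Ω[T⁄A] :=
    (AlgebraTensorModule.cancelBaseChange C T k k Ω[C⁄A]).symm ≪≫ₗ
      AlgebraTensorModule.congr (LinearEquiv.refl k k) (tensorKaehlerEquivOfFormallyEtale A C T)
  have hcomm : ∀ z, β ((mapBaseChange A B C).lTensor k z) = φ.lTensor k (α z) := by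
    intro z
    induction z using TensorProduct.induction_on with
    | zero => simp
    | add u v hu hv => simp only [map_add, hu, hv]
    | tmul a w =>
      induction w using TensorProduct.induction_on with
      | zero => simp
      | add u v hu hv => simp only [TensorProduct.tmul_add, map_add, hu, hv]
      | tmul c w =>
        have hmm : (map A A C T).restrictScalars B ∘ₗ map A A B C = map A A B T :=
          Derivation.liftKaehlerDifferential_unique _ _ (by
            ext b; simp [map_D, ← IsScalarTower.algebraMap_apply])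
        simp [α, β, φ, mapBaseChange_tmul, TensorProduct.smul_tmul', Algebra.smul_def, ← LinearMap.congr_fun hmm w]
  have : φ.lTensor k ∘ α = β ∘ (mapBaseChange A B C).lTensor k := funext fun z => (hcomm z).symm
  rw [show Function.Injective ((mapBaseChange A B C).lTensor k) ↔ Function.Injective (φ.lTensor k ∘ α) from
    by rw [this]; exact (Function.Injective.of_comp_iff β.injective _).symm]
  exact (Function.Injective.of_comp_iff' _ α.bijective).symm

end Groth.Agent.SmoothLib
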