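import Groth.Agent.SmoothLib.Tower
import Mathlib.RingTheory.Kaehler.Polynomial
import Mathlib.RingTheory.Etale.Locus

/-!
# Étale over affine space, read on differentials
-/

set_option autoImplicit false
set_option linter.style.haveILetI false
universe u

namespace Groth.Agent.SmoothLib

open TensorProduct KaehlerDifferential

/-- Étale at a prime over affine space, for any finite or infinite set of coordinates. -/
theorem isEtaleAt_mvPolynomial_iff {A C : Type u} [CommRing A] [CommRing C] [Algebra A C] (σ : Type)
    [Algebra (MvPolynomial σ A) C] [IsScalarTower A (MvPolynomial σ A) C] (q : Ideal C) [q.IsPrime]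
    [Algebra.IsSmoothAt A q] :
    Algebra.IsEtaleAt (MvPolynomial σ A) q ↔
      LinearIndependent (Localization.AtPrime q)
          (fun i : σ => D A (Localization.AtPrime q)
            (algebraMap C (Localization.AtPrime q) (algebraMap (MvPolynomial σ A) C (MvPolynomial.X i)))) ∧
        Submodule.span (Localization.AtPrime q)
          (Set.range fun i : σ => D A (Localization.AtPrime q)
            (algebraMap C (Localization.AtPrime q) (algebraMap (MvPolynomial σ A) C (MvPolynomial.X i)))) = ⊤ := by
  let T := Localization.AtPrime q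
  haveI : Algebra.FormallySmooth A T := ‹Algebra.IsSmoothAt A q›
  show Algebra.FormallyEtale (MvPolynomial σ A) T ↔ _
  rw [formallyEtale_tower_iff A]
  let b := (mvPolynomialBasis A σ).baseChange T
  have hb : ∀ i, mapBaseChange A (MvPolynomial σ A) T (b i) =
      D A T (algebraMap C T (algebraMap (MvPolynomial σ A) C (.X i))) := by
    intro i
    have h : mvPolynomialBasis A σ i = D A _ (.X i) := by
      apply (mvPolynomialBasis A σ).repr.injective
      rw [Module.Basis.repr_self, mvPolynomialBasis_repr_D_X]
    rw [← IsScalarTower.algebraMap_apply]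
    simp [b, h]
  constructor
  · intro h
    let e := LinearEquiv.ofBijective _ h
    have heq : (fun i => D A T (algebraMap C T (algebraMap (MvPolynomial σ A) C (.X i)))) = ⇑(b.map e) :=
      funext fun i => (hb i).symm
    rw [heq]
    exact ⟨(b.map e).linearIndependent, (b.map e).span_eq⟩
  · rintro ⟨hli, hsp⟩
    let c := Module.Basis.mk hli hsp.ge
    have h : mapBaseChange A (MvPolynomial σ A) T = (b.equiv c (Equiv.refl _)).toLinearMap :=
      b.ext fun i => by
        rw [hb i, LinearEquiv.coe_coe, Module.Basis.equiv_apply]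
        exact (Module.Basis.mk_apply hli hsp.ge i).symm
    rw [h]
    exact (b.equiv c (Equiv.refl _)).bijective

/-- Local coordinates: differentials independent at `q` extend to étale coordinates near `q`. -/
theorem exists_etale_coordinates {A B : Type u} [CommRing A] [CommRing B] [Algebra A B] [Algebra.EssFiniteType A B]
    (q : Ideal B) [q.IsPrime] [Algebra.IsSmoothAt A q] (r : ℕ) (g : Fin r → B)
    (hli : LinearIndependent q.ResidueField (fun i => (1 : q.ResidueField) ⊗ₜ[B] D A B (g i))) :
    ∃ (m : ℕ) (g' : Fin m → B),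
      letI := (MvPolynomial.aeval (Sum.elim g g') : MvPolynomial (Fin r ⊕ Fin m) A →ₐ[A] B).toRingHom.toAlgebra
      Algebra.IsEtaleAt (MvPolynomial (Fin r ⊕ Fin m) A) q := by
  classical
  let T := Localization.AtPrime q
  let K := q.ResidueField
  let V := K ⊗[B] Ω[B⁄A]
  haveI : Algebra.FormallySmooth A T := ‹Algebra.IsSmoothAt A q›
  haveI : Algebra.FormallyEtale B T := .of_isLocalization q.primeCompl
  haveI : Algebra.EssFiniteType A T := Algebra.EssFiniteType.comp A B T
  haveI : Module.Finite T Ω[T⁄A] := inferInstance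
  let v : Fin r → V := fun i => 1 ⊗ₜ D A B (g i)
  let t : Set V := Set.range fun b : B => (1 : K) ⊗ₜ[B] D A B b
  have hvt : Set.range v ⊆ t := fun _ ⟨i, hi⟩ => ⟨g i, hi⟩
  obtain ⟨b, hbt, hvb, htb, hb⟩ := exists_linearIndepOn_id_extension hli.linearIndepOn_id hvt
  have hbspan : Submodule.span K b = ⊤ := by
    rw [eq_top_iff]
    intro z _
    induction z using TensorProduct.induction_on with
    | zero => exact Submodule.zero_mem _
    | add x y hx hy => exact Submodule.add_mem _ (hx trivial) (hy trivial)
    | tmul k w =>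
      have hw : w ∈ Submodule.span B (Set.range (D A B)) := by rw [span_range_derivation]; trivial
      clear * - htb hw
      induction hw using Submodule.span_induction generalizing k with
      | mem y hy =>
        obtain ⟨x, rfl⟩ := hy
        rw [show k = k • (1 : K) by rw [smul_eq_mul, mul_one], ← smul_tmul']
        exact Submodule.smul_mem _ _ (htb ⟨x, rfl⟩)
      | zero => rw [tmul_zero]; exact Submodule.zero_mem _
      | add x y _ _ hx hy => rw [tmul_add]; exact Submodule.add_mem _ (hx k) (hy k)
      | smul c x _ hx => rw [← smul_tmul]; exact hx (c • k)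
  let n' := (b \ Set.range v : Set V)
  haveI := ((LinearIndependent.setFinite (R := K) (M := V) hb).sdiff (t := Set.range v)).fintype
  let ε : Fin (Fintype.card n') ≃ n' := (Fintype.equivFin n').symm
  choose g' hg' using fun j => hbt (ε j).2.1
  refine ⟨_, g', ?_⟩
  let u : Fin r ⊕ Fin (Fintype.card n') → V := fun i => 1 ⊗ₜ D A B (Sum.elim g g' i)
  have hu : ∀ i, u i = Sum.elim v (fun j => ((ε j : n') : V)) i := by
    rintro (i | j)
    · rfl
    · exact hg' j
  have huinj : Function.Injective u := by
    rw [funext hu]
    refine Function.Injective.sumElim hli.injective (fun a c h => ε.injective (Subtype.ext h)) fun i j h => ?_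
    exact (ε j).2.2 ⟨i, h⟩
  have hrange : Set.range u = b := by
    rw [funext hu, Set.Sum.elim_range]
    refine Set.Subset.antisymm (Set.union_subset hvb fun _ ⟨j, hj⟩ => hj ▸ (ε j).2.1) fun z hz => ?_
    by_cases h : z ∈ Set.range v
    · exact Or.inl h
    · exact Or.inr ⟨ε.symm ⟨z, hz, h⟩, by simp⟩
  have huli : LinearIndependent K u := (linearIndepOn_range_iff huinj id).mp (hrange ▸ hb)
  let e : V ≃ₗ[K] K ⊗[T] Ω[T⁄A] :=
    (AlgebraTensorModule.cancelBaseChange B T K K Ω[B⁄A]).symm ≪≫ₗ
      AlgebraTensorModule.congr (LinearEquiv.refl K K) (tensorKaehlerEquivOfFormallyEtale A B T)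
  let w : Fin r ⊕ Fin (Fintype.card n') → Ω[T⁄A] := fun i => D A T (algebraMap B T (Sum.elim g g' i))
  have hew : ∀ i, e (u i) = (1 : K) ⊗ₜ[T] w i := fun i => by
    simp [e, u, w]
    erw [AlgebraTensorModule.cancelBaseChange_symm_tmul, AlgebraTensorModule.congr_tmul]
    simp
  let bas := (Module.Basis.mk huli (by rw [hrange, hbspan])).map e
  have hbas : ∀ i, (1 : K) ⊗ₜ[T] w i = bas i := fun i => by
    rw [Module.Basis.map_apply, Module.Basis.mk_apply, hew]
  have hsp := IsLocalRing.span_eq_top_of_tmul_eq_basis w bas hbas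
  have hwli : LinearIndependent T w := by
    refine (linearIndependent_equiv' (R := T) Equiv.ulift.{u} (f := w) rfl).mp ?_
    refine Module.IsLocalRing.linearIndependent_of_flat _ ?_
    have h := (huli.map' e.toLinearMap e.ker).comp _ (Equiv.ulift.{u}).injective
    have heq : (e.toLinearMap ∘ u) ∘ Equiv.ulift.{u} =
        TensorProduct.mk T (IsLocalRing.ResidueField T) Ω[T⁄A] 1 ∘ (w ∘ Equiv.ulift.{u}) := funext fun i => hew _
    exact heq ▸ h
  letI := (MvPolynomial.aeval (Sum.elim g g') : MvPolynomial (Fin r ⊕ Fin (Fintype.card n')) A →ₐ[A] B).toRingHom.toAlgebra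
  haveI : IsScalarTower A (MvPolynomial (Fin r ⊕ Fin (Fintype.card n')) A) B :=
    IsScalarTower.of_algebraMap_eq' (MvPolynomial.aeval (Sum.elim g g')).comp_algebraMap.symm
  refine (isEtaleAt_mvPolynomial_iff _ q).mpr ?_
  have hX : (fun i => D A T (algebraMap B T (algebraMap (MvPolynomial (Fin r ⊕ Fin (Fintype.card n')) A) B (.X i)))) = w :=
    funext fun i => congrArg (fun z => D A T (algebraMap B T z)) (MvPolynomial.aeval_X _ i)
  rw [hX]
  exact ⟨hwli, hsp⟩

end Groth.Agent.SmoothLib
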